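import Groth.Agent.KDer46.Hom
import Groth.Agent.Crv77.Euler
import Groth.Agent.QC70.CohOps
import Groth.Agent.Var76.RegPres
import Groth.Agent.Amp73.GlobGen
import Groth.Agent.Curves2.CurveToolkit
import Groth.Agent.Curves2.ProjLineProper

/-!
Twists and Euler characteristics on `K₀` of coherent modules on projective space.
-/

set_option autoImplicit false
set_option linter.unusedSectionVars false
set_option linter.style.haveILetI false
set_option linter.overlappingInstances false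
set_option backward.isDefEq.respectTransparency.types false
set_option maxSynthPendingDepth 6

noncomputable section

universe u v

open CategoryTheory CategoryTheory.Limits AlgebraicGeometry TopologicalSpace

namespace Groth.Agent.K0Pn46

open Var76.Reg

section General

variable {X : Scheme.{u}}

/-- Coherent modules. -/
abbrev cohP (X : Scheme.{u}) : ObjectProperty X.Modules := fun M => Coh.IsCoh M

/-- The class of a module. -/
abbrev cl (M : X.Modules) : KZero.K0sub (cohP X) := KZero.clSub (cohP X) M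

instance : (cohP X).IsClosedUnderIsomorphisms := ⟨fun e h => QC70.isCoh_of_iso e h⟩

instance [IsLocallyNoetherian X] : (cohP X).IsClosedUnderKernels :=
  KDer46.isClosedUnderKernels_of _ fun f hX hY => QC70.isCoh_kernel f hX hY.1

theorem cl_eq_add [IsLocallyNoetherian X] (S : ShortComplex X.Modules) (hS : S.ShortExact)
    (h₁ : Coh.IsCoh S.X₁) (h₂ : Coh.IsCoh S.X₂) (h₃ : Coh.IsCoh S.X₃) :
    cl S.X₂ = cl S.X₁ + cl S.X₃ :=
  KDer46.clSub_add (P := cohP X) S hS h₁ h₂ h₃

theorem cl_iso [IsLocallyNoetherian X] {M N : X.Modules} (e : M ≅ N) : cl M = cl N :=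
  KDer46.clSub_iso (P := cohP X) e

theorem cl_isZero [IsLocallyNoetherian X] {M : X.Modules} (h : IsZero M) : cl M = 0 :=
  KDer46.clSub_isZero (P := cohP X) h

theorem cl_biproduct [IsLocallyNoetherian X] {M : X.Modules} (hM : Coh.IsCoh M) :
    ∀ b : ℕ, cl (⨁ fun _ : Fin b => M) = b • cl M
  | 0 => by
    rw [zero_smul]
    exact cl_isZero ((IsZero.iff_id_eq_zero _).2 (biproduct.hom_ext _ _ fun i => i.elim0))
  | b + 1 => by
    have h := cl_eq_add _ (QC70.consSC_shortExact fun _ : Fin (b + 1) => M) hM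
      (QC70.isCoh_biproduct _ fun _ => hM) (QC70.isCoh_biproduct _ fun _ => hM)
    change cl (⨁ fun _ : Fin (b + 1) => M) = cl M + cl (⨁ fun _ : Fin b => M) at h
    rw [h, cl_biproduct hM b, succ_nsmul, add_comm]

variable {G : Type v} [AddCommGroup G]

/-- An additive function gives a homomorphism. -/
def homOf (f : X.Modules → G)
    (hadd : ∀ S : ShortComplex X.Modules, S.ShortExact → Coh.IsCoh S.X₁ → Coh.IsCoh S.X₂ → Coh.IsCoh S.X₃ →
      f S.X₂ = f S.X₁ + f S.X₃) : KZero.K0sub (cohP X) →+ G :=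
  QuotientAddGroup.lift _ (FreeAbelianGroup.lift fun M => f M.1) (by
    rw [KZero.relSub, AddSubgroup.closure_le]
    rintro _ ⟨S, h₁, h₂, h₃, hS, rfl⟩
    rw [SetLike.mem_coe, AddMonoidHom.mem_ker, map_sub, map_sub, FreeAbelianGroup.lift_apply_of,
      FreeAbelianGroup.lift_apply_of, FreeAbelianGroup.lift_apply_of, hadd S hS h₁ h₂ h₃]
    abel)

theorem homOf_cl (f : X.Modules → G)
    (hadd : ∀ S : ShortComplex X.Modules, S.ShortExact → Coh.IsCoh S.X₁ → Coh.IsCoh S.X₂ → Coh.IsCoh S.X₃ →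
      f S.X₂ = f S.X₁ + f S.X₃) {M : X.Modules} (hM : Coh.IsCoh M) : homOf f hadd (cl M) = f M :=
  (congrArg (homOf f hadd) (KDer46.clSub_eq hM)).trans (FreeAbelianGroup.lift_apply_of _ _)

theorem hom_ext {φ ψ : KZero.K0sub (cohP X) →+ G} (h : ∀ M, Coh.IsCoh M → φ (cl M) = ψ (cl M)) :
    φ = ψ := by
  ext M
  have := h M.1 M.2
  rwa [show cl M.1 = _ from KDer46.clSub_eq M.2] at this

end General

variable (n : ℕ) (k : Type u) [Field k]

/-- `K₀` of projective space. -/
abbrev K0 : Type (u + 1) := KZero.K0sub (cohP (CohB1.ProjSpace n k))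

theorem isCoh_twist (d : ℤ) : Coh.IsCoh (Twist.twistProjSpace n k d) :=
  Amp73.isCoh_of_isInvertible (isInvertible_twist d)

theorem isCoh_tw {F : (CohB1.ProjSpace n k).Modules} (hF : Coh.IsCoh F) (d : ℤ) :
    Coh.IsCoh (tw n k F d) :=
  Amp73.isCoh_tensorMod hF (isCoh_twist n k d)

/-- The class of `O(d)`. -/
abbrev o (d : ℤ) : K0 n k := cl (Twist.twistProjSpace n k d)

/-- Twisting. -/
def T (d : ℤ) : K0 n k →+ K0 n k :=
  homOf (fun M => cl (tw n k M d)) fun S hS h₁ h₂ h₃ => by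
    obtain ⟨S', hS', e₁, e₂, e₃⟩ := exists_shortExact_tw hS d
    rw [← e₁, ← e₂, ← e₃]
    exact cl_eq_add S' hS' (e₁ ▸ isCoh_tw n k h₁ d) (e₂ ▸ isCoh_tw n k h₂ d) (e₃ ▸ isCoh_tw n k h₃ d)

theorem T_cl {M : (CohB1.ProjSpace n k).Modules} (hM : Coh.IsCoh M) (d : ℤ) :
    T n k d (cl M) = cl (tw n k M d) :=
  homOf_cl _ _ hM

theorem T_o (d a : ℤ) : T n k a (o n k d) = o n k (d + a) := by
  rw [T_cl n k (isCoh_twist n k d)]
  obtain ⟨e⟩ := nonempty_twist_add (n := n) (A := k) (rfl : d + a = d + a)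
  exact cl_iso e

theorem T_T (a b : ℤ) (x : K0 n k) : T n k b (T n k a x) = T n k (a + b) x := by
  refine DFunLike.congr_fun (hom_ext (φ := (T n k b).comp (T n k a)) fun M hM => ?_) x
  rw [AddMonoidHom.comp_apply, T_cl n k hM, T_cl n k (isCoh_tw n k hM a), T_cl n k hM]
  obtain ⟨e⟩ := nonempty_tw_tw M (rfl : a + b = a + b)
  exact cl_iso e

theorem T_zero (x : K0 n k) : T n k 0 x = x := by
  refine DFunLike.congr_fun (hom_ext (ψ := AddMonoidHom.id _) fun M hM => ?_) x
  rw [AddMonoidHom.id_apply, T_cl n k hM]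
  obtain ⟨e⟩ := nonempty_tw_zero M
  exact cl_iso e

theorem finBdd {M : (CohB1.ProjSpace n k).Modules} (hM : Coh.IsCoh M) :
    Crv77.FinBdd k M (n + 1) := by
  haveI : IsProper (CohB1.ProjSpace n k ↘ Spec (CommRingCat.of k)) := Serre71.isProper_projSpace n k
  exact ⟨fun i => Serre71.finite_hh_of_isProper k _ hM i, fun i hi => subsingleton_hh_gt n k _ hM.1 i hi⟩

/-- The Euler characteristic. -/
def χ : K0 n k →+ ℤ :=
  homOf (fun M => Curv2.euler k (CohB1.ProjSpace n k) M) fun _ hS h₁ h₂ h₃ =>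
    Crv77.euler_add hS (finBdd n k h₁) (finBdd n k h₂) (finBdd n k h₃)

theorem χ_cl {M : (CohB1.ProjSpace n k).Modules} (hM : Coh.IsCoh M) :
    χ n k (cl M) = Curv2.euler k (CohB1.ProjSpace n k) M :=
  homOf_cl _ _ hM

theorem χ_o_eq_zero {d : ℤ} (h₁ : -(n : ℤ) ≤ d) (h₂ : d < 0) : χ n k (o n k d) = 0 := by
  rw [χ_cl n k (isCoh_twist n k d), Crv77.FinBdd.euler_eq (finBdd n k (isCoh_twist n k d))]
  refine Finset.sum_eq_zero fun i _ => ?_
  haveI := Pn71.subsingleton_hh n k d i (by omega) (by omega)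
  simp [Module.finrank_zero_of_subsingleton]

theorem χ_o_zero [IsAlgClosed k] : χ n k (o n k 0) = 1 := by
  obtain ⟨e⟩ := nonempty_twist_zero (n := n) (A := k)
  rw [χ_cl n k (isCoh_twist n k 0), Crv77.FinBdd.euler_eq (finBdd n k (isCoh_twist n k 0)),
    Finset.sum_eq_single 0]
  · haveI := Curves2.ProjLine.isIntegral k n
    haveI : IsProper (CohB1.ProjSpace n k ↘ Spec (CommRingCat.of k)) := Serre71.isProper_projSpace n k
    rw [(Crv77.hEquiv k e 0).finrank_eq, Curves2.finrank_h0_structureModule k]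
    simp
  · intro i _ hi
    haveI := Pn71.subsingleton_hh n k 0 i (by omega) (by omega)
    simp [Module.finrank_zero_of_subsingleton]
  · simp

/-- The free module as a sum of copies of `O`. -/
def freeIso (b : ℕ) : FlatMod.freeMod (CohB1.ProjSpace n k) b ≅
    ⨁ fun _ : Fin b => Coh.structureModule (CohB1.ProjSpace n k) :=
  (biproduct.isoCoproduct _).symm

theorem isCoh_structureModule : Coh.IsCoh (Coh.structureModule (CohB1.ProjSpace n k)) :=
  QC70.isCoh_of_iso (nonempty_twist_zero (n := n) (A := k)).some (isCoh_twist n k 0)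

theorem isCoh_free (b : ℕ) : Coh.IsCoh (FlatMod.freeMod (CohB1.ProjSpace n k) b) :=
  QC70.isCoh_of_iso (freeIso n k b).symm (QC70.isCoh_biproduct _ fun _ => isCoh_structureModule n k)

theorem cl_free (b : ℕ) : cl (FlatMod.freeMod (CohB1.ProjSpace n k) b) = b • o n k 0 := by
  rw [cl_iso (freeIso n k b), cl_biproduct (isCoh_structureModule n k) b]
  obtain ⟨e⟩ := nonempty_twist_zero (n := n) (A := k)
  rw [show o n k 0 = _ from cl_iso e]

theorem subsingleton_tw_free (b : ℕ) (r : ℤ) (q : ℕ) (h₀ : ¬ (q = 0 ∧ 0 ≤ r))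
    (hn : ¬ (q = n ∧ r ≤ -((n : ℤ) + 1))) :
    Subsingleton (Coh.HH (CohB1.ProjSpace n k) (tw n k (FlatMod.freeMod (CohB1.ProjSpace n k) b) r) q) := by
  refine ValVan29.subsingleton_hh_of_iso (EGA73.tensIso (biproduct.isoCoproduct _) (Iso.refl _)) q ?_
  refine QC70.biproduct_induction (fun M => Subsingleton (Coh.HH _ (tw n k M r) q))
    (fun M h => ValVan29.subsingleton_hh_of_isZero (ValVan29.isZero_tensorMod h (isInvertible_twist r)) q)
    (fun S hS a c => sub_tw_X₂ hS a c) _ fun _ => ?_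
  exact ValVan29.subsingleton_hh_of_iso (EGA73.tensUnitLeft _).symm q (Pn71.subsingleton_hh n k r q h₀ hn)

theorem finrank_h0_free [IsAlgClosed k] (b : ℕ) :
    Module.finrank k (Coh.HH (CohB1.ProjSpace n k) (FlatMod.freeMod (CohB1.ProjSpace n k) b) 0) = b := by
  have h : χ n k (cl (FlatMod.freeMod (CohB1.ProjSpace n k) b)) = (b : ℤ) := by
    rw [cl_free, map_nsmul, χ_o_zero]
    simp
  rw [χ_cl n k (isCoh_free n k b), Crv77.FinBdd.euler_eq (finBdd n k (isCoh_free n k b)),
    Finset.sum_eq_single 0] at h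
  · simpa using h
  · intro i _ hi
    obtain ⟨e⟩ := nonempty_tw_zero (n := n) (A := k) (FlatMod.freeMod (CohB1.ProjSpace n k) b)
    haveI := ValVan29.subsingleton_hh_of_iso e i (subsingleton_tw_free n k b 0 i (by omega) (by omega))
    simp [Module.finrank_zero_of_subsingleton]
  · simp

end Groth.Agent.K0Pn46
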