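import Groth.Agent.K0Pn46.Basic

/-!
`K₀` of projective space is free on `O, O(-1), …, O(-n)`.
-/

set_option autoImplicit false
set_option linter.unusedSectionVars false
set_option linter.style.haveILetI false
set_option linter.overlappingInstances false
set_option backward.isDefEq.respectTransparency.types false
set_option maxSynthPendingDepth 6

noncomputable section

universe u

open CategoryTheory CategoryTheory.Limits AlgebraicGeometry TopologicalSpace

namespace Groth.Agent.K0Pn46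

open Var76.Reg Crv77

/-- The section `1` of the structure module. -/
def oneSec (X : Scheme.{u}) : Γ(Coh.structureModule X, ⊤) := (1 : Γ(X, ⊤))

theorem unitHom_oneSec (X : Scheme.{u}) :
    EGA73.unitHom (Coh.structureModule X) (oneSec X) = 𝟙 _ := by
  refine Scheme.Modules.hom_ext _ _ fun U => ?_
  ext c
  refine (EGA73.unitHom_app (Coh.structureModule X) _ U c).trans ?_
  show @HMul.hMul Γ(X, U) Γ(X, U) Γ(X, U) _ c ((X.presheaf.map (homOfLE (le_top (a := U))).op) 1) = c
  rw [map_one, mul_one]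

theorem unitHom_app_oneSec {X : Scheme.{u}} {G : X.Modules} (h : Coh.structureModule X ⟶ G) :
    EGA73.unitHom G (h.app ⊤ (oneSec X)) = h := by
  rw [← unitHom_comp, unitHom_oneSec, Category.id_comp]

variable (n : ℕ) (k : Type u) [Field k] [IsAlgClosed k]

/-- A `0`-regular module is a quotient of a free module with the same space of sections. -/
theorem exists_presentation {G : (CohB1.ProjSpace n k).Modules} (hG : Coh.IsCoh G) (hr : Reg n k G 0) :
    ∃ (b : ℕ) (p : FlatMod.freeMod (CohB1.ProjSpace n k) b ⟶ G),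
      Epi p ∧ Function.Bijective (hmap k p 0) := by
  obtain ⟨e⟩ := nonempty_tw_zero (n := n) (A := k) G
  have := finite_hh_tw G hG 0 0
  haveI : Module.Finite k (Coh.HH (CohB1.ProjSpace n k) G 0) := Module.Finite.equiv (hEquiv k e 0)
  obtain ⟨b₀, q, hq, hqs⟩ := exists_freeMod_epi_surjective (k := k) (tw n k G 0) (isCoh_tw n k hG 0)
    (hr.spanned hG le_rfl)
  let v := Module.finBasis k (Coh.HH (CohB1.ProjSpace n k) G 0)
  let p : FlatMod.freeMod (CohB1.ProjSpace n k) (Module.finrank k (Coh.HH (CohB1.ProjSpace n k) G 0)) ⟶ G :=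
    Sigma.desc fun j => toHom (v j)
  have hsurj : Function.Surjective (hmap k p 0) := by
    intro x
    refine LinearMap.range_eq_top.1 (eq_top_iff.2 ?_) x
    rw [← v.span_eq, Submodule.span_le]
    rintro _ ⟨j, rfl⟩
    let one : Coh.HH (CohB1.ProjSpace n k) (Coh.structureModule (CohB1.ProjSpace n k)) 0 :=
      (sec (Coh.structureModule (CohB1.ProjSpace n k))).symm (1 : Γ(CohB1.ProjSpace n k, ⊤))
    refine ⟨hmap k (Sigma.ι (fun _ : Fin _ => Coh.structureModule (CohB1.ProjSpace n k)) j) 0 one,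
      (sec G).injective ?_⟩
    rw [hmap_comp, show Sigma.ι _ j ≫ p = toHom (v j) from Sigma.ι_desc _ _, sec_hmap]
    exact (congrArg _ ((sec (Coh.structureModule (CohB1.ProjSpace n k))).apply_symm_apply _)).trans
      (toHom_app_one (v j))
  have hfac : ∀ j : Fin b₀, ∃ a, a ≫ p =
      Sigma.ι (fun _ : Fin b₀ => Coh.structureModule (CohB1.ProjSpace n k)) j ≫ q ≫ e.hom := fun j => by
    let h : Coh.structureModule (CohB1.ProjSpace n k) ⟶ G :=
      Sigma.ι (fun _ : Fin b₀ => Coh.structureModule (CohB1.ProjSpace n k)) j ≫ q ≫ e.hom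
    let one : Coh.HH (CohB1.ProjSpace n k) (Coh.structureModule (CohB1.ProjSpace n k)) 0 :=
      (sec (Coh.structureModule (CohB1.ProjSpace n k))).symm (oneSec (CohB1.ProjSpace n k))
    obtain ⟨y, hy⟩ := hsurj (hmap k h 0 one)
    refine ⟨EGA73.unitHom _ (sec _ y), ?_⟩
    rw [unitHom_comp, ← sec_hmap (A := k), hy, sec_hmap, AddEquiv.apply_symm_apply]
    exact unitHom_app_oneSec h
  choose a ha using hfac
  have hd : Sigma.desc a ≫ p = q ≫ e.hom :=
    Sigma.hom_ext _ _ fun t => by rw [Sigma.ι_desc_assoc, ha]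
  refine ⟨_, p, epi_of_epi_fac hd, ?_, hsurj⟩
  haveI := (finBdd n k (isCoh_free n k (Module.finrank k (Coh.HH (CohB1.ProjSpace n k) G 0)))).finite 0
  exact (LinearMap.injective_iff_surjective_of_finrank_eq_finrank (finrank_h0_free n k _)).2 hsurj

/-- All cohomology vanishes in the twists `-j, …, -1`. -/
def Van (j : ℕ) (G : (CohB1.ProjSpace n k).Modules) : Prop :=
  ∀ (r : ℤ) (q : ℕ), -(j : ℤ) ≤ r → r < 0 → Subsingleton (Coh.HH (CohB1.ProjSpace n k) (tw n k G r) q)

/-- One step of the linear resolution. -/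
theorem step {G : (CohB1.ProjSpace n k).Modules} (hG : Coh.IsCoh G) (hr : Reg n k G 0) :
    ∃ (b : ℕ) (G' : (CohB1.ProjSpace n k).Modules), Coh.IsCoh G' ∧ Reg n k G' 0 ∧
      (∀ j : ℕ, j ≤ n → Van n k j G → Van n k (j + 1) G') ∧
      cl G = b • o n k 0 - T n k (-1) (cl G') := by
  obtain ⟨b, p, hp, hp0⟩ := exists_presentation n k hG hr
  have hP := isCoh_free n k b
  let S := ShortComplex.mk (kernel.ι p) p (kernel.condition p)
  have hS : S.ShortExact := KData.kernel_shortExact p
  have hK : Coh.IsCoh (kernel p) := QC70.isCoh_kernel p hP hG.1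
  obtain ⟨eK⟩ := nonempty_tw_tw (n := n) (A := k) (kernel p) (show (1 : ℤ) + -1 = 0 from rfl)
  obtain ⟨eK'⟩ := nonempty_tw_zero (n := n) (A := k) (kernel p)
  have key0 : ∀ q, q ≤ 1 → Subsingleton (Coh.HH (CohB1.ProjSpace n k) (kernel p) q) := fun q hq => by
    refine subsingleton_of_forall_eq 0 fun x => ?_
    rcases (show q = 0 ∨ q = 1 by omega) with rfl | rfl
    · refine injective_f_zero k hS ?_
      rw [map_zero]
      exact hp0.1 (((exact_f_g k hS 0).apply_apply_eq_zero x).trans (map_zero _).symm)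
    · have hfree : Subsingleton (Coh.HH (CohB1.ProjSpace n k) (FlatMod.freeMod (CohB1.ProjSpace n k) b) 1) := by
        obtain ⟨e⟩ := nonempty_tw_zero (n := n) (A := k) (FlatMod.freeMod (CohB1.ProjSpace n k) b)
        exact ValVan29.subsingleton_hh_of_iso e 1 (subsingleton_tw_free n k b 0 1 (by omega) (by omega))
      obtain ⟨y, rfl⟩ := (exact_δ_f k hS 0 x).1 (hfree.elim _ _)
      obtain ⟨z, rfl⟩ := hp0.2 y
      exact (exact_g_δ k hS 0).apply_apply_eq_zero z
  have key0' : ∀ q, q ≤ 1 → Subsingleton (Coh.HH (CohB1.ProjSpace n k) (tw n k (kernel p) 0) q) :=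
    fun q hq => ValVan29.subsingleton_hh_of_iso eK'.symm q (key0 q hq)
  refine ⟨b, tw n k (kernel p) 1, isCoh_tw n k hK 1, fun i hi => ?_, fun j hj hvan r q hr₁ hr₂ => ?_, ?_⟩
  · refine sub_tw_tw (kernel p) (rfl : (1 : ℤ) + (0 - i) = _) ?_
    obtain ⟨i', rfl⟩ : ∃ i', i = i' + 1 := ⟨i - 1, by omega⟩
    rcases Nat.eq_zero_or_pos i' with rfl | hi'
    · rw [show (1 : ℤ) + (0 - ((0 + 1 : ℕ) : ℤ)) = 0 by norm_num]
      exact key0' 1 le_rfl
    rcases Nat.lt_or_ge n (i' + 1) with hin | hin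
    · exact subsingleton_hh_gt n k _ (isQCoh_tw n k (kernel p) hK.1 _) _ hin
    exact sub_tw_X₁ hS (hr.vanish hG.1 hi' (by push_cast; omega))
      (subsingleton_tw_free n k b _ _ (by omega) (by push_cast; omega))
  · refine sub_tw_tw (kernel p) (rfl : (1 : ℤ) + r = _) ?_
    by_cases h1 : (1 : ℤ) + r = 0
    · rw [h1]
      rcases Nat.lt_or_ge q 2 with hq | hq
      · exact key0' q (by omega)
      obtain ⟨q', rfl⟩ : ∃ q', q = q' + 1 := ⟨q - 1, by omega⟩
      exact sub_tw_X₁ hS (hr.vanish hG.1 (by omega) (by omega))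
        (subsingleton_tw_free n k b 0 _ (by omega) (by omega))
    · have hfree : ∀ q, Subsingleton (Coh.HH (CohB1.ProjSpace n k)
          (tw n k (FlatMod.freeMod (CohB1.ProjSpace n k) b) (1 + r)) q) := fun q =>
        subsingleton_tw_free n k b _ q (by omega) (by omega)
      cases q with
      | zero =>
        obtain ⟨S', hS', e₁, e₂, -⟩ := exists_shortExact_tw hS (1 + r)
        rw [show tw n k (kernel p) (1 + r) = S'.X₁ from e₁.symm]
        have h2 : Subsingleton (Coh.HH (CohB1.ProjSpace n k) S'.X₂ 0) := by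
          rw [e₂]
          exact hfree 0
        exact (injective_f_zero k hS').subsingleton
      | succ q => exact sub_tw_X₁ hS (hvan _ q (by omega) (by omega)) (hfree _)
  · have h := cl_eq_add S hS hK hP hG
    change cl (FlatMod.freeMod (CohB1.ProjSpace n k) b) = cl (kernel p) + cl G at h
    rw [cl_free] at h
    rw [T_cl n k (isCoh_tw n k hK 1), cl_iso (eK ≪≫ eK'), h, add_sub_cancel_left]

/-- The subgroup generated by `O, …, O(j - n)`. -/
def A (j : ℕ) : AddSubgroup (K0 n k) :=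
  AddSubgroup.closure (o n k '' {d | ∃ i : ℕ, i + j ≤ n ∧ d = -(i : ℤ)})

theorem o_mem_A {j i : ℕ} (h : i + j ≤ n) : o n k (-(i : ℤ)) ∈ A n k j :=
  AddSubgroup.subset_closure ⟨_, ⟨i, h, rfl⟩, rfl⟩

theorem T_A_le (j : ℕ) : (A n k (j + 1)).map (T n k (-1)) ≤ A n k j := by
  rw [A, AddMonoidHom.map_closure, AddSubgroup.closure_le]
  rintro _ ⟨_, ⟨d, ⟨i, hi, rfl⟩, rfl⟩, rfl⟩
  rw [T_o, show -(i : ℤ) + -1 = -((i + 1 : ℕ) : ℤ) by push_cast; ring]
  exact o_mem_A n k (by omega)

theorem isZero_of_reg_of_van {G : (CohB1.ProjSpace n k).Modules} (hG : Coh.IsCoh G) (hr : Reg n k G 0)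
    (hv : Van n k (n + 1) G) : IsZero G := by
  have hG1 := isCoh_tw n k hG (-1)
  have hr' : Reg n k (tw n k G (-1)) 0 := fun i hi => by
    refine sub_tw_tw G (rfl : (-1 : ℤ) + (0 - i) = _) ?_
    rcases Nat.lt_or_ge n i with hin | hin
    · exact subsingleton_hh_gt n k _ (isQCoh_tw n k G hG.1 _) _ hin
    exact hv _ i (by omega) (by omega)
  obtain ⟨b, p, hp, hp0⟩ := exists_presentation n k hG1 hr'
  haveI := hv (-1) 0 (by omega) (by omega)
  haveI : Subsingleton (Coh.HH (CohB1.ProjSpace n k) (FlatMod.freeMod (CohB1.ProjSpace n k) b) 0) :=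
    hp0.1.subsingleton
  have hb : b = 0 := (finrank_h0_free n k b).symm.trans Module.finrank_zero_of_subsingleton
  subst hb
  have hz : IsZero (tw n k G (-1)) := by
    refine IsZero.of_epi p ((IsZero.iff_id_eq_zero _).2 (Sigma.hom_ext _ _ fun i => i.elim0))
  obtain ⟨e⟩ := nonempty_tw_tw (n := n) (A := k) G (show (-1 : ℤ) + 1 = 0 from rfl)
  obtain ⟨e'⟩ := nonempty_tw_zero (n := n) (A := k) G
  exact (ValVan29.isZero_tensorMod hz (isInvertible_twist 1)).of_iso (e ≪≫ e').symm

theorem mem_A : ∀ (c j : ℕ), j + c = n + 1 → ∀ G : (CohB1.ProjSpace n k).Modules, Coh.IsCoh G →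
    Reg n k G 0 → Van n k j G → cl G ∈ A n k j
  | 0, j, hj, G, hG, hr, hv => by
    obtain rfl : j = n + 1 := by omega
    rw [cl_isZero (isZero_of_reg_of_van n k hG hr hv)]
    exact zero_mem _
  | c + 1, j, hj, G, hG, hr, hv => by
    obtain ⟨b, G', hG', hr', hv', e⟩ := step n k hG hr
    rw [e]
    refine sub_mem ((A n k j).nsmul_mem ?_ b) (T_A_le n k j ⟨_, mem_A c (j + 1) (by omega) G' hG' hr'
      (hv' j (by omega) hv), rfl⟩)
    simpa using o_mem_A n k (j := j) (i := 0) (by omega)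

/-- The coordinates. -/
def Φ : (Fin (n + 1) → ℤ) →+ K0 n k where
  toFun a := ∑ i : Fin (n + 1), a i • o n k (-((i : ℕ) : ℤ))
  map_zero' := by simp
  map_add' a a' := by simp [add_smul, Finset.sum_add_distrib]

theorem A_le_range : A n k 0 ≤ (Φ n k).range := by
  rw [A, AddSubgroup.closure_le]
  rintro _ ⟨_, ⟨i, hi, rfl⟩, rfl⟩
  refine ⟨Pi.single (⟨i, by omega⟩ : Fin (n + 1)) 1, ?_⟩
  show ∑ l : Fin (n + 1), _ = _
  rw [Finset.sum_eq_single (⟨i, by omega⟩ : Fin (n + 1))]
  · rw [Pi.single_eq_same, one_smul]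
  · intro l _ hl
    rw [Pi.single_eq_of_ne hl, zero_smul]
  · simp

theorem regZero_o_one : Reg n k (Twist.twistProjSpace n k 1) 0 := fun i hi => by
  obtain ⟨e⟩ := nonempty_twist_add (n := n) (A := k) (rfl : (1 : ℤ) + (0 - i) = _)
  exact ValVan29.subsingleton_hh_of_iso e.symm i (Pn71.subsingleton_hh n k _ i (by omega) (by omega))

theorem o_neg_succ_mem : o n k (-((n : ℤ) + 1)) ∈ A n k 0 := by
  obtain ⟨c, hc⟩ := A_le_range n k (mem_A n k (n + 1) 0 (by omega) _ (isCoh_twist n k 1) (regZero_o_one n k)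
    fun r q h₁ h₂ => absurd h₁ (by omega))
  have h := congrArg (T n k (-1)) hc
  simp only [Φ, AddMonoidHom.coe_mk, ZeroHom.coe_mk, map_sum, map_zsmul, T_o] at h
  rw [Fin.sum_univ_castSucc] at h
  have hu := congrArg (χ n k) h
  simp only [map_add, map_sum, map_zsmul] at hu
  rw [show (1 : ℤ) + -1 = 0 from rfl, χ_o_zero, Finset.sum_eq_zero, zero_add] at hu
  · have hl : -((Fin.last n : ℕ) : ℤ) + -1 = -((n : ℤ) + 1) := by simp; ring
    rw [hl, smul_eq_mul] at hu
    rw [hl, ← eq_sub_iff_add_eq'] at h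
    have hcu : c (Fin.last n) * c (Fin.last n) = 1 := by
      rcases Int.isUnit_eq_one_or (IsUnit.of_mul_eq_one _ hu) with e | e <;> rw [e] <;> rfl
    have e : o n k (-((n : ℤ) + 1)) = (c (Fin.last n) * c (Fin.last n)) • o n k (-((n : ℤ) + 1)) := by
      rw [hcu, one_smul]
    rw [e, mul_smul, h]
    refine (A n k 0).zsmul_mem (sub_mem ?_ (sum_mem fun i _ => (A n k 0).zsmul_mem ?_ _)) _
    · simpa using o_mem_A n k (j := 0) (i := 0) (by omega)
    · rw [show -((i.castSucc : ℕ) : ℤ) + -1 = -(((i : ℕ) + 1 : ℕ) : ℤ) by simp [add_comm]]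
      exact o_mem_A n k (by omega)
  · intro i _
    rw [χ_o_eq_zero n k (by simp) (by simp; omega), smul_zero]

theorem T_neg_one_A : (A n k 0).map (T n k (-1)) ≤ A n k 0 := by
  rw [A, AddMonoidHom.map_closure, AddSubgroup.closure_le]
  rintro _ ⟨_, ⟨d, ⟨i, hi, rfl⟩, rfl⟩, rfl⟩
  rw [T_o]
  rcases Nat.lt_or_ge i n with h | h
  · rw [show -(i : ℤ) + -1 = -((i + 1 : ℕ) : ℤ) by push_cast; ring]
    exact o_mem_A n k (by omega)
  · rw [show -(i : ℤ) + -1 = -((n : ℤ) + 1) by omega]
    exact o_neg_succ_mem n k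

theorem T_neg_mem {x : K0 n k} (hx : x ∈ A n k 0) : ∀ m : ℕ, T n k (-(m : ℤ)) x ∈ A n k 0
  | 0 => by rw [Nat.cast_zero, neg_zero, T_zero]; exact hx
  | m + 1 => by
    rw [show -((m + 1 : ℕ) : ℤ) = -(m : ℤ) + -1 by push_cast; ring, ← T_T]
    exact T_neg_one_A n k ⟨_, T_neg_mem hx m, rfl⟩

theorem surjective_Φ : Function.Surjective (Φ n k) := by
  refine AddMonoidHom.range_eq_top.1 (eq_top_iff.2 fun x hx => A_le_range n k ?_)
  clear hx
  induction x using QuotientAddGroup.induction_on with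
  | H z =>
    induction z using FreeAbelianGroup.induction_on with
    | zero => exact (A n k 0).zero_mem
    | of M =>
      obtain ⟨F, hF⟩ := M
      obtain ⟨m₀, hm₀⟩ := exists_reg F hF
      have hreg := hm₀.mono hF.1 (m' := (m₀.toNat : ℤ)) (by omega)
      have hG : Reg n k (tw n k F (m₀.toNat : ℤ)) 0 := fun i hi =>
        sub_tw_tw F (show (m₀.toNat : ℤ) + (0 - i) = _ by ring) (hreg i hi)
      have h := T_neg_mem n k (mem_A n k (n + 1) 0 (by omega) _ (isCoh_tw n k hF _) hG
        fun r q h₁ h₂ => absurd h₁ (by omega)) m₀.toNat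
      rw [← T_cl n k hF, T_T, add_neg_cancel, T_zero, show cl F = _ from KDer46.clSub_eq hF] at h
      exact h
    | neg z hz => exact (A n k 0).neg_mem hz
    | add y z hy hz => exact (A n k 0).add_mem hy hz

theorem injective_Φ : Function.Injective (Φ n k) := by
  refine (injective_iff_map_eq_zero _).2 fun a ha => ?_
  have key : ∀ t : ℕ, ∀ ht : t < n + 1, a ⟨t, ht⟩ = 0 := by
    intro t
    induction t using Nat.strong_induction_on with
    | _ t ih =>
      intro ht
      have h := congrArg (fun x => χ n k (T n k (t : ℤ) x)) ha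
      simp only [Φ, AddMonoidHom.coe_mk, ZeroHom.coe_mk, map_sum, map_zsmul, T_o, map_zero] at h
      rw [Finset.sum_eq_single (⟨t, ht⟩ : Fin (n + 1))] at h
      · simpa [χ_o_zero] using h
      · intro i _ hi
        rcases Nat.lt_trichotomy i t with hlt | heq | hgt
        · have := ih i hlt i.2
          simp only [Fin.eta] at this
          rw [this, zero_smul]
        · exact absurd (Fin.ext heq) hi
        · rw [χ_o_eq_zero n k (by omega) (by omega), smul_zero]
      · simp
  exact funext fun i => key i i.2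

end Groth.Agent.K0Pn46
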